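import Mathlib

/-!
# The average fixed-point subgroup in an irreducible module of a solvable group

If a finite solvable group acts irreducibly and nontrivially on an abelian `p`-group `V`, then the
geometric mean of the orders of the fixed-point subgroups is at most the square root of `|V|`.
The proof splits `V` along an abelian normal section acting without fixed points and pairs the
elements `x`, `x * a` inside the stabilizer of each piece.
-/

set_option autoImplicit false
set_option linter.style.haveILetI false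

noncomputable section

open scoped commutatorElement

namespace CfsgLib.FixAverage

variable {G V : Type*} [Group G] [CommGroup V] (φ : G →* MulAut V)

/-- The points fixed by every element of `B`. -/
def fixBy (B : Set G) : Subgroup V where
  carrier := {v | ∀ b ∈ B, φ b v = v}
  one_mem' := fun _ _ => map_one _
  mul_mem' := fun {x y} hx hy b hb => by rw [map_mul, hx b hb, hy b hb]
  inv_mem' := fun {x} hx b hb => by rw [map_inv, hx b hb]

/-- The fixed points of a single element. -/
def fix (g : G) : Subgroup V := fixBy φ {g}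

theorem mem_fixBy {B : Set G} {v : V} : v ∈ fixBy φ B ↔ ∀ b ∈ B, φ b v = v := Iff.rfl

theorem mem_fix {g : G} {v : V} : v ∈ fix φ g ↔ φ g v = v := by
  simp [fix, mem_fixBy]

theorem apply_mul (g h : G) (v : V) : φ (g * h) v = φ g (φ h v) := by
  rw [map_mul, MulAut.mul_apply]

theorem mem_map_iff {g : G} {W : Subgroup V} {v : V} :
    v ∈ W.map (φ g).toMonoidHom ↔ φ g⁻¹ v ∈ W := by
  rw [Subgroup.mem_map]
  constructor
  · rintro ⟨w, hw, rfl⟩
    simpa using hw
  · exact fun h => ⟨φ g⁻¹ v, h, by simp⟩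

theorem map_fixBy (g : G) (B : Set G) :
    (fixBy φ B).map (φ g).toMonoidHom = fixBy φ ((fun b => g * b * g⁻¹) '' B) := by
  ext v
  rw [mem_map_iff]
  simp only [mem_fixBy, Set.forall_mem_image, apply_mul]
  refine forall₂_congr fun b _ => ⟨fun h => ?_, fun h => ?_⟩
  · rw [h, ← apply_mul, mul_inv_cancel, map_one, MulAut.one_apply]
  · apply (φ g).injective
    rw [h, ← apply_mul, mul_inv_cancel, map_one, MulAut.one_apply]

/-- Bound for a single piece: pair `x` with `x * a`. -/
theorem pair_le [Finite V] (W : Subgroup V) (x a : G) (ha : W ⊓ fix φ a = ⊥) :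
    Nat.card (W ⊓ fix φ x : Subgroup V) * Nat.card (W ⊓ fix φ (x * a) : Subgroup V) ≤
      Nat.card W := by
  rw [← Nat.card_prod]
  refine Nat.card_le_card_of_injective
    (fun t : (W ⊓ fix φ x : Subgroup V) × (W ⊓ fix φ (x * a) : Subgroup V) =>
      (⟨(t.1 : V) * t.2, W.mul_mem t.1.2.1 t.2.2.1⟩ : W)) fun s t hst => ?_
  have hdis : ∀ y : V, y ∈ W ⊓ fix φ x → y ∈ W ⊓ fix φ (x * a) → y = 1 := by
    intro y hy hy'
    refine Subgroup.mem_bot.1 (ha ▸ ⟨hy.1, (mem_fix φ).2 ((φ x).injective ?_)⟩)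
    rw [← apply_mul, (mem_fix φ).1 hy'.2, (mem_fix φ).1 hy.2]
  have h : (s.1 : V) * s.2 = t.1 * t.2 := congrArg Subtype.val hst
  have h' : (t.1 : V)⁻¹ * s.1 = t.2 * (s.2 : V)⁻¹ := by
    rw [eq_mul_inv_iff_mul_eq, mul_assoc, h, inv_mul_cancel_left]
  have h1 : (t.1 : V)⁻¹ * s.1 = 1 := hdis _ (Subgroup.mul_mem _ (Subgroup.inv_mem _ t.1.2) s.1.2)
    (h' ▸ Subgroup.mul_mem _ t.2.2 (Subgroup.inv_mem _ s.2.2))
  have h2 : (s.1 : V) = t.1 := (inv_mul_eq_one.1 h1).symm
  refine Prod.ext (Subtype.ext h2) (Subtype.ext ?_)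
  rw [h2] at h
  exact mul_left_cancel h

variable {φ}

/-- Product over a stabilizer. -/
theorem stabilizer_prod_le [Finite G] [Finite V] (W : Subgroup V) (P : Subgroup G) [Fintype P]
    (a : P) (ha : W ⊓ fix φ (a : G) = ⊥) :
    ∏ x : P, Nat.card (W ⊓ fix φ (x : G) : Subgroup V) ^ 2 ≤ Nat.card W ^ Nat.card P := by
  calc ∏ x : P, Nat.card (W ⊓ fix φ (x : G) : Subgroup V) ^ 2
      = ∏ x : P, (Nat.card (W ⊓ fix φ (x : G) : Subgroup V) *
          Nat.card (W ⊓ fix φ ((x : G) * a) : Subgroup V)) := by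
        rw [Finset.prod_mul_distrib, Finset.prod_pow, sq]
        congr 1
        exact (Equiv.prod_comp (Equiv.mulRight a)
          (fun x : P => Nat.card (W ⊓ fix φ (x : G) : Subgroup V))).symm
    _ ≤ ∏ _x : P, Nat.card W := Finset.prod_le_prod' fun x _ => pair_le φ W (x : G) a ha
    _ = _ := by rw [Finset.prod_const, Finset.card_univ, Nat.card_eq_fintype_card (α := P)]

/-- Every element of a system of representatives of the cycles moves away from it. -/
theorem exists_cycle_reps {α : Type*} [Fintype α] [DecidableEq α] (σ : Equiv.Perm α) :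
    ∃ T : Finset α, (∀ t ∈ T, σ t ≠ t) ∧ (∀ t ∈ T, σ t ∉ T) ∧
      ∀ x, σ x ≠ x → ∃ t ∈ T, σ.SameCycle t x := by
  classical
  let s : Setoid α := Equiv.Perm.SameCycle.setoid σ
  let r : α → α := fun x => (Quotient.mk s x).out
  have hr : ∀ x, σ.SameCycle (r x) x := fun x => Quotient.mk_out (s := s) x
  have hcon : ∀ x y, σ.SameCycle x y → r x = r y := fun x y h =>
    congrArg Quotient.out (Quotient.sound (s := s) h)
  refine ⟨(Finset.univ.filter fun x => σ x ≠ x).image r, ?_, ?_, fun x hx =>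
    ⟨r x, Finset.mem_image.2 ⟨x, by simpa using hx, rfl⟩, hr x⟩⟩
  · intro t ht
    obtain ⟨x, hx, rfl⟩ := Finset.mem_image.1 ht
    intro hfix
    exact (Finset.mem_filter.1 hx).2 ((hr x).apply_eq_self_iff.1 hfix)
  · intro t ht hσt
    obtain ⟨x, hx, rfl⟩ := Finset.mem_image.1 ht
    obtain ⟨y, _, hy⟩ := Finset.mem_image.1 hσt
    have hxy : σ.SameCycle y x := by
      have h := hr y
      rw [hy] at h
      exact h.symm.trans (Equiv.Perm.sameCycle_apply_left.2 (hr x))
    have : r y = r x := hcon y x hxy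
    rw [hy] at this
    exact (Finset.mem_filter.1 hx).2 ((hr x).apply_eq_self_iff.1 this)

/-- The main counting step, given a decomposition permuted by the group. -/
theorem prod_fix_sq_le_of_decomp [Finite G] [Finite V] [Fintype G] {ι : Type*} [Fintype ι]
    [DecidableEq ι] (W : ι → Subgroup V) (σ : G →* Equiv.Perm ι)
    (hmap : ∀ g i, ∀ v ∈ W i, φ g v ∈ W (σ g i))
    (hbij : Function.Bijective fun f : ((i : ι) → W i) => ∏ i, (f i : V))
    (hmove : ∀ i, ∃ a : G, σ a i = i ∧ W i ⊓ fix φ a = ⊥) :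
    ∏ g : G, Nat.card (fix φ g) ^ 2 ≤ Nat.card V ^ Nat.card G := by
  classical
  have hV : Nat.card V = ∏ i, Nat.card (W i) := by
    rw [← Nat.card_congr (Equiv.ofBijective _ hbij), Nat.card_pi]
  let w : G → ι → ℕ := fun g i =>
    if σ g i = i then Nat.card (W i ⊓ fix φ g : Subgroup V) ^ 2 else Nat.card (W i)
  have hstep : ∀ g, Nat.card (fix φ g) ^ 2 ≤ ∏ i, w g i := by
    intro g
    obtain ⟨T, hT1, hT2, hT3⟩ := exists_cycle_reps (σ g)
    let comp : V → (i : ι) → W i := fun v => (Equiv.ofBijective _ hbij).symm v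
    have hcomp : ∀ v, ∏ i, (comp v i : V) = v := fun v =>
      (Equiv.ofBijective _ hbij).apply_symm_apply v
    have hnat : ∀ h : G, ∀ v, φ h v = v → ∀ i, (comp v (σ h i) : V) = φ h (comp v i) := by
      intro h v hv
      let f' : (i : ι) → W i := fun j => ⟨φ h (comp v ((σ h).symm j) : V), by
        simpa using hmap h ((σ h).symm j) _ (comp v ((σ h).symm j)).2⟩
      have hdep : ∀ j k, j = k → (comp v j : V) = comp v k := by
        rintro j _ rfl; rfl
      have hdep' : ∀ i, φ h (comp v ((σ h).symm (σ h i)) : V) = φ h (comp v i) := fun i => by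
        rw [hdep _ i ((σ h).symm_apply_apply i)]
      have hf' : ∏ j, (f' j : V) = v := by
        rw [← Equiv.prod_comp (σ h) (fun j => (f' j : V))]
        simp only [f', hdep', ← map_prod, hcomp, hv]
      have heq : f' = comp v := hbij.1 (hf'.trans (hcomp v).symm)
      intro i
      rw [← congrFun heq (σ h i)]
      simp only [f', hdep']
    have hinj : Function.Injective fun v : fix φ g =>
        ((fun i : {i // σ g i = i} => (⟨(comp v i.1 : V), (comp v i.1).2, by
            show _ ∈ fix φ g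
            rw [mem_fix]
            have := hnat g v ((mem_fix φ).1 v.2) i.1
            rw [i.2] at this
            exact this.symm⟩ : (W i.1 ⊓ fix φ g : Subgroup V))),
          fun t : T => comp v t.1) := by
      intro u v huv
      apply Subtype.ext
      rw [← hcomp u, ← hcomp v]
      refine Finset.prod_congr rfl fun i _ => ?_
      by_cases hi : σ g i = i
      · have h := congrFun (congrArg Prod.fst huv) ⟨i, hi⟩
        exact congrArg (fun x : (W i ⊓ fix φ g : Subgroup V) => (x : V)) h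
      · obtain ⟨t, ht, k, hk⟩ := hT3 i hi
        have key : ∀ v : fix φ g, (comp v i : V) = φ (g ^ k) (comp v t) := by
          intro v
          rw [← hnat (g ^ k) v ?_ t, map_zpow, hk]
          have hmem : g ∈ (MulAction.stabilizer (MulAut V) (v : V)).comap φ := (mem_fix φ).1 v.2
          exact Subgroup.zpow_mem _ hmem k
        rw [key u, key v]
        exact congrArg (fun x : W t => φ (g ^ k) (x : V)) (congrFun (congrArg Prod.snd huv) ⟨t, ht⟩)
    have hle := Nat.card_le_card_of_injective _ hinj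
    rw [Nat.card_prod, Nat.card_pi, Nat.card_pi] at hle
    have hWT : ∏ t : T, Nat.card (W t.1) = ∏ t ∈ T, Nat.card (W t) :=
      Finset.prod_coe_sort T fun i => Nat.card (W i)
    have hW2 : ∏ t ∈ T, Nat.card (W t) = ∏ t ∈ T.image (σ g), Nat.card (W t) := by
      rw [Finset.prod_image fun _ _ _ _ h => (σ g).injective h]
      refine Finset.prod_congr rfl fun t _ => Nat.card_congr
        ⟨fun v => ⟨φ g v, hmap g t _ v.2⟩, fun v => ⟨φ g⁻¹ v, by
          simpa [map_inv] using hmap g⁻¹ (σ g t) _ v.2⟩, fun v => Subtype.ext ?_,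
          fun v => Subtype.ext ?_⟩ <;> simp
    calc Nat.card (fix φ g) ^ 2
        ≤ ((∏ i : {i // σ g i = i}, Nat.card (W i.1 ⊓ fix φ g : Subgroup V)) *
            ∏ t ∈ T, Nat.card (W t)) ^ 2 := Nat.pow_le_pow_left (hWT ▸ hle) 2
      _ = (∏ i : {i // σ g i = i}, Nat.card (W i.1 ⊓ fix φ g : Subgroup V) ^ 2) *
            ∏ t ∈ T ∪ T.image (σ g), Nat.card (W t) := by
          rw [Finset.prod_union, mul_pow, Finset.prod_pow, sq (∏ t ∈ T, _)]
          · nth_rw 2 [hW2]
          · rw [Finset.disjoint_right]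
            intro y hy
            obtain ⟨t, ht, rfl⟩ := Finset.mem_image.1 hy
            exact hT2 t ht
      _ ≤ (∏ i : {i // σ g i = i}, Nat.card (W i.1 ⊓ fix φ g : Subgroup V) ^ 2) *
            ∏ t ∈ Finset.univ.filter (fun i => ¬ σ g i = i), Nat.card (W t) := by
          refine Nat.mul_le_mul_left _ (Finset.prod_le_prod_of_subset_of_one_le' ?_
            fun _ _ _ => Nat.card_pos)
          intro y hy
          rw [Finset.mem_filter]
          refine ⟨Finset.mem_univ _, ?_⟩
          rcases Finset.mem_union.1 hy with h | h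
          · exact hT1 y h
          · obtain ⟨t, ht, rfl⟩ := Finset.mem_image.1 h
            exact fun h' => hT1 t ht ((σ g).injective h')
      _ = ∏ i, w g i := by
          rw [Finset.prod_ite, Finset.prod_subtype (p := fun i => σ g i = i) _ (fun i => by simp) (fun i =>
            Nat.card (W i ⊓ fix φ g : Subgroup V) ^ 2)]
  calc ∏ g : G, Nat.card (fix φ g) ^ 2
      ≤ ∏ g : G, ∏ i, w g i := Finset.prod_le_prod' fun g _ => hstep g
    _ = ∏ i, ∏ g : G, w g i := Finset.prod_comm
    _ ≤ ∏ i, Nat.card (W i) ^ Nat.card G := by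
        refine Finset.prod_le_prod' fun i _ => ?_
        obtain ⟨a, ha, hfa⟩ := hmove i
        let P : Subgroup G := (MulAction.stabilizer (Equiv.Perm ι) i).comap σ
        have hP : ∀ g, g ∈ P ↔ σ g i = i := fun g => Iff.rfl
        have h1 := stabilizer_prod_le (φ := φ) (W i) P ⟨a, ha⟩ hfa
        simp only [w]
        rw [Finset.prod_ite, Finset.prod_const]
        have hc : Nat.card P = (Finset.univ.filter fun g : G => σ g i = i).card := by
          rw [Nat.card_eq_fintype_card, Fintype.card_of_subtype]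
          exact fun g => by simp [hP]
        rw [Finset.prod_subtype (p := fun g => g ∈ P) _ (fun g => by simp [hP]) (fun g =>
            Nat.card (W i ⊓ fix φ g : Subgroup V) ^ 2)]
        refine (Nat.mul_le_mul_right _ h1).trans ?_
        rw [← pow_add, hc, Finset.card_filter_add_card_filter_not, Finset.card_univ,
          Nat.card_eq_fintype_card (α := G)]
    _ = _ := by rw [Finset.prod_pow, hV]

/-- **Average fixed points.** In a nontrivial irreducible action of a finite solvable group on an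
abelian `p`-group `V` one has `∏_g |C_V(g)|² ≤ |V|^|G|`. -/
theorem prod_fix_sq_le [Finite G] [Fintype G] [Finite V] [Group.IsSolvable G] {p : ℕ}
    [Fact p.Prime] (hV : IsPGroup p V)
    (hirr : ∀ U : Subgroup V, (∀ g, ∀ u ∈ U, φ g u ∈ U) → U = ⊥ ∨ U = ⊤) (hφ : φ ≠ 1) :
    ∏ g : G, Nat.card (fix φ g) ^ 2 ≤ Nat.card V ^ Nat.card G := by
  classical
  -- a normal subgroup minimal outside the kernel
  have hne : φ.ker ≠ ⊤ := fun h => hφ (MonoidHom.ker_eq_top_iff.1 h)
  obtain ⟨A, ⟨hAn, hAk⟩, hAmin⟩ := Set.Finite.exists_minimal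
    (Set.toFinite {A : Subgroup G | A.Normal ∧ ¬ A ≤ φ.ker})
    ⟨⊤, inferInstance, fun h => hne (top_le_iff.1 h)⟩
  haveI := hAn
  have hsmall : ∀ B : Subgroup G, B.Normal → B ≤ A → ¬ B ≤ φ.ker → B = A := fun B hB hBA hBk =>
    le_antisymm hBA (hAmin ⟨hB, hBk⟩ hBA)
  -- the image of `A` is abelian
  have hder : ⁅A, A⁆ ≤ φ.ker := by
    by_contra h
    have hle : ⁅A, A⁆ ≤ A := Subgroup.commutator_le_self A
    have heq : ⁅A, A⁆ = A := hsmall _ inferInstance hle h
    obtain ⟨n, hn⟩ := (Group.isSolvable_def G).1 inferInstance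
    have : ∀ n, A ≤ derivedSeries G n := by
      intro n
      induction n with
      | zero => simp
      | succ k ih => rw [derivedSeries_succ, ← heq]; exact Subgroup.commutator_mono ih ih
    exact hAk (le_trans (this n) (hn ▸ bot_le))
  have hcomm : ∀ a ∈ A, ∀ b ∈ A, ∀ v, φ a (φ b v) = φ b (φ a v) := by
    intro a ha b hb v
    have h : φ ⁅a, b⁆ = 1 := hder (Subgroup.commutator_mem_commutator ha hb)
    rw [map_commutatorElement, commutatorElement_eq_one_iff_mul_comm] at h
    exact DFunLike.congr_fun h v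
  -- `A` has no fixed points
  have hAfix : fixBy φ (A : Set G) = ⊥ := by
    refine (hirr (fixBy φ (A : Set G)) fun g u hu b (hb : b ∈ A) => ?_).resolve_right fun h => hAk fun a ha => ?_
    · have hb' : g⁻¹ * b * g ∈ A := by simpa using hAn.conj_mem b hb g⁻¹
      have := hu _ hb'
      rw [show b = g * (g⁻¹ * b * g) * g⁻¹ by group, apply_mul, apply_mul, ← apply_mul φ g⁻¹ g,
        inv_mul_cancel, map_one, MulAut.one_apply, this]
    · refine MonoidHom.mem_ker.2 (MulEquiv.ext fun v => ?_)
      exact (h ▸ Subgroup.mem_top v : v ∈ fixBy φ (A : Set G)) a ha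
  -- the image of `A` has order prime to `p`
  have hcop : ∀ a ∈ A, φ a ^ p = 1 → φ a = 1 := by
    by_contra hcon
    push Not at hcon
    obtain ⟨a₀, ha₀, hap, ha1⟩ := hcon
    let Ap : Subgroup G :=
      { carrier := {a | a ∈ A ∧ φ a ^ p = 1}
        one_mem' := ⟨A.one_mem, by simp⟩
        mul_mem' := fun {a b} ha hb => ⟨A.mul_mem ha.1 hb.1, by
          rw [map_mul, Commute.mul_pow (MulEquiv.ext fun v => hcomm a ha.1 b hb.1 v), ha.2, hb.2,
            one_mul]⟩
        inv_mem' := fun {a} ha => ⟨A.inv_mem ha.1, by rw [map_inv, inv_pow, ha.2, inv_one]⟩ }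
    have hApn : Ap.Normal := ⟨fun a ha g => ⟨hAn.conj_mem a ha.1 g, by
      rw [map_mul, map_mul, map_inv, conj_pow, ha.2, mul_one, mul_inv_cancel]⟩⟩
    have hApA : Ap = A := hsmall Ap hApn (fun a ha => ha.1) fun h => ha1 (h ⟨ha₀, hap⟩)
    let R : Subgroup (MulAut V) := A.map φ
    have hR : IsPGroup p R := fun x => by
      obtain ⟨a, ha, hx⟩ := x.2
      refine ⟨1, Subtype.ext ?_⟩
      rw [SubmonoidClass.coe_pow, ← hx, pow_one]
      exact ((hApA.symm ▸ ha : a ∈ Ap)).2
    have hfix : 1 ∈ MulAction.fixedPoints R V := fun r => map_one (r : MulAut V)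
    by_cases hVone : ∀ v : V, v = 1
    · exact ha1 (MulEquiv.ext fun v => (hVone _).trans (hVone _).symm)
    push Not at hVone
    obtain ⟨v₀, hv₀⟩ := hVone
    haveI : Nontrivial V := ⟨⟨v₀, 1, hv₀⟩⟩
    obtain ⟨n, hn, hcard⟩ := hV.nontrivial_iff_card.1 inferInstance
    obtain ⟨b, hb, hb1⟩ := hR.exists_fixed_point_of_prime_dvd_card_of_fixed_point V
      (hcard ▸ dvd_pow_self p (Nat.pos_iff_ne_zero.1 hn)) hfix
    have hbm : b ∈ fixBy φ (A : Set G) := fun a ha => hb ⟨φ a, a, ha, rfl⟩
    rw [hAfix, Subgroup.mem_bot] at hbm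
    exact hb1 hbm.symm
  -- the pieces
  let Fam : Set (Subgroup V) := {W | W ≠ ⊥ ∧ ∃ B : Set G, B ⊆ A ∧ W = fixBy φ B}
  let S : Set (Subgroup V) := {W | Minimal (· ∈ Fam) W}
  haveI : Fintype S := Fintype.ofFinite S
  have hSA : ∀ W : S, ∀ a ∈ A, ∀ v ∈ (W : Subgroup V), φ a v ∈ (W : Subgroup V) := by
    rintro ⟨W, ⟨_, B, hB, rfl⟩, _⟩ a ha v hv b hb
    rw [hcomm b (hB hb) a ha, hv b hb]
  have hinter : ∀ W : S, ∀ C : Set G, C ⊆ A → (W : Subgroup V) ⊓ fixBy φ C = ⊥ ∨
      (W : Subgroup V) ≤ fixBy φ C := by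
    rintro ⟨W, ⟨hW, B, hB, rfl⟩, hmin⟩ C hC
    refine or_iff_not_imp_left.2 fun hne => le_trans (hmin ⟨hne, B ∪ C, Set.union_subset hB hC, ?_⟩
      inf_le_left) inf_le_right
    ext v
    simp only [Subgroup.mem_inf, mem_fixBy, Set.mem_union]
    exact ⟨fun h b hb => hb.elim (h.1 b) (h.2 b), fun h =>
      ⟨fun b hb => h b (Or.inl hb), fun b hb => h b (Or.inr hb)⟩⟩
  have hSmap : ∀ g : G, ∀ W ∈ S, W.map (φ g).toMonoidHom ∈ S := by
    have hF : ∀ g : G, ∀ W ∈ Fam, W.map (φ g).toMonoidHom ∈ Fam := by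
      rintro g W ⟨hW, B, hB, rfl⟩
      refine ⟨fun h => hW ((Subgroup.map_eq_bot_iff_of_injective _ (φ g).injective).1 h), _,
        ?_, map_fixBy φ g B⟩
      rintro _ ⟨b, hb, rfl⟩
      exact hAn.conj_mem b (hB hb) g
    intro g W hW
    refine ⟨hF g W hW.1, fun U hU hle => ?_⟩
    have h1 : U.map (φ g⁻¹).toMonoidHom ≤ W := by
      intro v hv
      rw [mem_map_iff, inv_inv] at hv
      have := hle hv
      rw [mem_map_iff, ← apply_mul, inv_mul_cancel, map_one, MulAut.one_apply] at this
      exact this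
    intro v hv
    have := hW.2 (hF g⁻¹ U hU) h1 ((mem_map_iff φ).1 hv)
    rw [mem_map_iff, inv_inv, ← apply_mul, mul_inv_cancel, map_one, MulAut.one_apply] at this
    exact this
  let τ : G → S → S := fun g W => ⟨(W : Subgroup V).map (φ g).toMonoidHom, hSmap g W W.2⟩
  have hτ : ∀ g h W, τ g (τ h W) = τ (g * h) W := by
    intro g h W
    apply Subtype.ext
    ext v
    simp only [τ, mem_map_iff, mul_inv_rev, apply_mul]
  have hτ1 : ∀ W, τ 1 W = W := by
    intro W
    apply Subtype.ext
    ext v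
    rw [show τ 1 W = ⟨(W : Subgroup V).map (φ 1).toMonoidHom, hSmap 1 W W.2⟩ from rfl]
    rw [Subtype.coe_mk, mem_map_iff, inv_one, map_one, MulAut.one_apply]
  let σ : G →* Equiv.Perm S :=
    { toFun := fun g => ⟨τ g, τ g⁻¹, fun W => by rw [hτ, inv_mul_cancel, hτ1],
        fun W => by rw [hτ, mul_inv_cancel, hτ1]⟩
      map_one' := Equiv.ext hτ1
      map_mul' := fun g h => Equiv.ext fun W => (hτ g h W).symm }
  have hmap : ∀ g (W : S), ∀ v ∈ (W : Subgroup V), φ g v ∈ (σ g W : Subgroup V) :=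
    fun g W v hv => Subgroup.mem_map_of_mem (φ g).toMonoidHom hv
  -- averaging over the image of the pointwise fixer of a piece
  haveI : Finite (MulAut V) := Finite.of_injective _ DFunLike.coe_injective
  let R : S → Subgroup (MulAut V) := fun W =>
    (A ⊓ (fixingSubgroup (MulAut V) ((W : Subgroup V) : Set V)).comap φ).map φ
  haveI : ∀ W, Fintype (R W) := fun W => Fintype.ofFinite _
  have hRA : ∀ W, ∀ r : R W, ∃ a ∈ A, φ a = (r : MulAut V) ∧
      ∀ w ∈ (W : Subgroup V), φ a w = w := by
    intro W r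
    obtain ⟨a, ha, hr⟩ := r.2
    exact ⟨a, ha.1, hr, fun w hw => (mem_fixingSubgroup_iff _).1 (Subgroup.mem_comap.1 ha.2) w hw⟩
  let e : S → V →* V := fun W =>
    { toFun := fun v => ∏ r : R W, (r : MulAut V) v
      map_one' := by simp
      map_mul' := fun u v => by simp [Finset.prod_mul_distrib] }
  have hR : ∀ W, (Nat.card (R W)).Coprime p := by
    intro W
    rw [Nat.coprime_comm, (Fact.out : p.Prime).coprime_iff_not_dvd]
    intro hd
    obtain ⟨r, hr⟩ := exists_prime_orderOf_dvd_card' p hd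
    obtain ⟨a, ha, har, -⟩ := hRA W r
    have hp : φ a ^ p = 1 := by rw [har, ← SubmonoidClass.coe_pow, ← hr, pow_orderOf_eq_one]; rfl
    have hr1 : r = 1 := Subtype.ext (har.symm.trans (hcop a ha hp))
    rw [hr1, orderOf_one] at hr
    exact (Fact.out : p.Prime).one_lt.ne hr
  have he_self : ∀ W : S, ∀ v ∈ (W : Subgroup V), e W v = v ^ Nat.card (R W) := by
    intro W v hv
    show ∏ r : R W, (r : MulAut V) v = _
    rw [Finset.prod_congr rfl (g := fun _ => v) fun r _ => ?_, Finset.prod_const, Finset.card_univ,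
      Nat.card_eq_fintype_card]
    obtain ⟨a, _, har, hfix⟩ := hRA W r
    rw [← har, hfix v hv]
  have he_other : ∀ W W' : S, W' ≠ W → ∀ v ∈ (W' : Subgroup V), e W v = 1 := by
    intro W W' hne v hv
    obtain ⟨hW, B, hB, hWB⟩ := W.2.1
    obtain ⟨hW', B', hB', hWB'⟩ := W'.2.1
    have h1 : e W v ∈ (W' : Subgroup V) := Subgroup.prod_mem _ fun r _ => by
      obtain ⟨a, ha, har, -⟩ := hRA W r
      rw [← har]
      exact hSA W' a ha v hv
    have h2 : e W v ∈ (W : Subgroup V) := by
      rw [hWB]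
      intro b hb
      let rb : R W := ⟨φ b, b, ⟨hB hb, Subgroup.mem_comap.2 ((mem_fixingSubgroup_iff _).2
        fun w hw => by rw [SetLike.mem_coe, hWB] at hw; exact hw b hb)⟩, rfl⟩
      show φ b (∏ r : R W, (r : MulAut V) v) = ∏ r : R W, (r : MulAut V) v
      rw [map_prod]
      exact Equiv.prod_comp (Equiv.mulLeft rb) (fun r : R W => (r : MulAut V) v)
    rcases hinter W' B hB with h | h
    · rw [← hWB] at h
      exact Subgroup.mem_bot.1 (h ▸ ⟨h1, h2⟩)
    · rw [← hWB] at h
      exact absurd (Subtype.ext (le_antisymm h (W.2.2 W'.2.1 h))) hne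
  have hΦ : ∀ (W : S) (f : (W : S) → (W : Subgroup V)),
      e W (∏ i, (f i : V)) = (f W : V) ^ Nat.card (R W) := by
    intro W f
    rw [map_prod, Finset.prod_eq_single W (fun i _ hi => he_other W i hi _ (f i).2)
      (fun h => absurd (Finset.mem_univ _) h), he_self W _ (f W).2]
  have hinj : Function.Injective fun f : ((W : S) → (W : Subgroup V)) => ∏ i, (f i : V) := by
    intro f f' hff
    funext W
    apply Subtype.ext
    have h := congrArg (e W) hff
    simp only [hΦ] at h
    obtain ⟨k, hk⟩ := IsPGroup.iff_card.1 hV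
    exact (powCoprime (by rw [hk]; exact (Nat.Coprime.pow_left k (hR W).symm))).injective h
  have hsur : Function.Surjective fun f : ((W : S) → (W : Subgroup V)) => ∏ i, (f i : V) := by
    have hinv : ∀ g, ∀ u ∈ (⨆ W : S, (W : Subgroup V)), φ g u ∈ ⨆ W : S, (W : Subgroup V) := by
      intro g u hu
      induction hu using Subgroup.iSup_induction' with
      | hp W x hx => exact Subgroup.mem_iSup_of_mem (σ g W) (hmap g W x hx)
      | h1 => rw [map_one]; exact Subgroup.one_mem _
      | hmul x y _ _ hx hy => rw [map_mul]; exact Subgroup.mul_mem _ hx hy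
    rcases hirr _ hinv with h | h
    · exfalso
      by_cases hVbot : (⊤ : Subgroup V) = ⊥
      · refine hφ (MonoidHom.ext fun g => MulEquiv.ext fun v => ?_)
        have : ∀ w : V, w = 1 := fun w => Subgroup.mem_bot.1 (hVbot ▸ Subgroup.mem_top w)
        exact (this _).trans (this _).symm
      have hmem : (⊤ : Subgroup V) ∈ Fam := ⟨hVbot, ∅, Set.empty_subset _, by
        ext v; simp [mem_fixBy]⟩
      obtain ⟨W, -, hW⟩ := Set.Finite.exists_le_minimal (Set.toFinite Fam) hmem
      exact hW.1.1 (le_bot_iff.1 (h ▸ le_iSup (fun W : S => (W : Subgroup V)) ⟨W, hW⟩))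
    · intro v
      have hv : v ∈ ⨆ W : S, (W : Subgroup V) := h ▸ Subgroup.mem_top v
      induction hv using Subgroup.iSup_induction' with
      | hp W x hx =>
        refine ⟨Pi.mulSingle W ⟨x, hx⟩, ?_⟩
        show ∏ i, ((Pi.mulSingle W (⟨x, hx⟩ : (W : Subgroup V)) : (W : S) → (W : Subgroup V)) i : V) = x
        rw [Finset.prod_eq_single W (fun i _ hi => by rw [Pi.mulSingle_eq_of_ne hi]; rfl)
          (fun h => absurd (Finset.mem_univ _) h), Pi.mulSingle_eq_same]
      | h1 => exact ⟨1, by simp⟩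
      | hmul x y _ _ hx hy =>
        obtain ⟨f, hf⟩ := hx
        obtain ⟨f', hf'⟩ := hy
        refine ⟨f * f', ?_⟩
        show ∏ i, ((f * f') i : V) = x * y
        simp only [Pi.mul_apply, Subgroup.coe_mul, Finset.prod_mul_distrib]
        exact congrArg₂ (· * ·) hf hf'
  refine prod_fix_sq_le_of_decomp (fun W : S => (W : Subgroup V)) σ hmap ⟨hinj, hsur⟩ fun W => ?_
  obtain ⟨a, ha, haW⟩ : ∃ a ∈ A, ¬ (W : Subgroup V) ≤ fix φ a := by
    by_contra hall
    push Not at hall
    refine W.2.1.1 (le_bot_iff.1 (hAfix ▸ fun w hw a ha => ?_))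
    exact (mem_fix φ).1 (hall a ha hw)
  refine ⟨a, Subtype.ext (le_antisymm ?_ fun v hv => ?_), (hinter W {a} (by simpa using ha)).resolve_right haW⟩
  · rintro v ⟨w, hw, rfl⟩
    exact hSA W a ha w hw
  · exact (mem_map_iff φ).2 (hSA W a⁻¹ (A.inv_mem ha) v hv)

end CfsgLib.FixAverage
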