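import Cfsg.Agent.Lib.Characters.Clifford
import Cfsg.Agent.Lib.Characters.Ramified
import Cfsg.Agent.Lib.CharCorr.Basic
import Cfsg.Agent.Lib.Primitive.FixAverage

/-!
# Primitive characters of solvable groups and class sizes

For a primitive irreducible character `χ` of a finite solvable group and a prime `p`, some
conjugacy class has size whose `p`-part is at least the `p`-part of `χ(1)`.
Along a chief series the character degree gains at most the square root of each non-central factor,
while on average an element moves at least the square root of such a factor.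
-/

set_option autoImplicit false
set_option linter.style.haveILetI false

noncomputable section

namespace CfsgLib.PrimitiveClassSize

open Cfsg CfsgLib.Characters
open scoped ComplexConjugate commutatorElement

variable {G : Type*} [Group G] [Fintype G]

/-- All restrictions of `χ` to normal subgroups are multiples of an irreducible character. -/
def QuasiPrimitive (χ : G → ℂ) : Prop :=
  ∀ (N : Subgroup G) (_ : N.Normal) (_ : Fintype N) (θ : N → ℂ), IsIrrCharacter N θ →
    classInner (fun n : N => χ n) θ ≠ 0 →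
      (fun n : N => χ n) = classInner (fun n : N => χ n) θ • θ

theorem quasiPrimitive_of_not_induced {χ : G → ℂ} (hχ : IsIrrCharacter G χ)
    (hprim : ¬ ∃ H : Subgroup G, H ≠ ⊤ ∧ ∃ θ : H → ℂ, IsCharacter H θ ∧ indFun H θ = χ) :
    QuasiPrimitive χ := by
  classical
  intro N hN _ θ hθ hcon
  have hle := CfsgLib.Clifford.le_inertia hN (isClassFunction_of_isCharacter (isCharacter_of_irr hθ))
  haveI : Fintype (CfsgLib.Clifford.inertia hN θ) := Fintype.ofFinite _
  obtain ⟨ψ, hψ, hind, -⟩ := CfsgLib.Clifford.correspondence hN hθ _ rfl hle hχ hcon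
  have htop : CfsgLib.Clifford.inertia hN θ = ⊤ := by
    by_contra h
    exact hprim ⟨_, h, ψ, isCharacter_of_irr hψ, hind⟩
  have horb : (CfsgLib.Clifford.conjOrbit_finite hN θ).toFinset = {θ} := by
    ext ψ
    rw [Set.Finite.mem_toFinset, Finset.mem_singleton]
    constructor
    · rintro ⟨g, rfl⟩
      exact (htop ▸ Subgroup.mem_top g : g ∈ CfsgLib.Clifford.inertia hN θ)
    · rintro rfl
      exact ⟨1, (CfsgLib.Clifford.conjChar_one hN _).symm⟩
  rw [CfsgLib.Clifford.clifford hN hχ hθ hcon, horb, Finset.sum_singleton,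
    classInner_smul_left, classInner_irr_self hθ, mul_one]

/-- The arithmetic of one chief step of the character. -/
theorem degree_step {χ : G → ℂ} (hqp : QuasiPrimitive χ)
    (L K : Subgroup G) (hL : L.Normal) (hK : K.Normal) [Fintype L] [Fintype K] (hle : L ≤ K)
    (θ : L → ℂ) (hθ : IsIrrCharacter L θ) (η : K → ℂ) (hη : IsIrrCharacter K η)
    (hcon : classInner (fun n : K => χ n) η ≠ 0) (hconL : classInner (fun n : L => χ n) θ ≠ 0) :
    ∃ e : ℕ, η 1 = e * θ 1 ∧ e ∣ L.relIndex K ∧ e * e ≤ L.relIndex K := by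
  classical
  set a := classInner (fun n : K => χ n) η with ha
  set b := classInner (fun n : L => χ n) θ with hb
  have hK' := hqp K hK inferInstance η hη hcon
  have hL' := hqp L hL inferInstance θ hθ hconL
  let f : L → ℂ := fun n => η ⟨(n : G), hle n.2⟩
  have hf : a • f = b • θ := by
    rw [← hL']
    funext n
    exact (congrFun hK' ⟨(n : G), hle n.2⟩).symm
  -- the ratio
  let L' : Subgroup K := L.subgroupOf K
  haveI : L'.Normal := hL.subgroupOf K
  haveI : Fintype L' := Fintype.ofFinite _
  let eL : L' ≃* L := Subgroup.subgroupOfEquivOfLe hle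
  let θ' : L' → ℂ := fun x => θ (eL x)
  have hθ' : IsIrrCharacter L' θ' :=
    CfsgLib.Clifford.isIrrCharacter_pullback hθ eL.toMonoidHom eL.surjective
  have hinner : classInner (fun x : L' => η x) θ' = classInner f θ := by
    unfold classInner
    rw [Nat.card_congr eL.toEquiv]
    congr 1
    exact Fintype.sum_equiv eL.toEquiv _ _ fun x => rfl
  have hfne : classInner f θ ≠ 0 := by
    intro h
    have := congrArg (fun φ => classInner φ θ) hf
    simp only [classInner_smul_left, h, mul_zero, classInner_irr_self hθ, mul_one] at this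
    exact hconL this.symm
  obtain ⟨e, he, hed⟩ := CfsgLib.Ramified.degree_ratio_dvd_index L' hη hθ' (hinner ▸ hfne)
  have he1 : η 1 = e * θ 1 := by
    rw [he]
    exact congrArg (fun z => (e : ℂ) * θ z) (map_one eL)
  refine ⟨e, he1, hed, ?_⟩
  obtain ⟨d, hd, hd1⟩ := irr_exists_degree hθ
  have hd0 : θ 1 ≠ 0 := by rw [hd1]; exact Nat.cast_ne_zero.2 (Nat.pos_iff_ne_zero.1 hd)
  have hbe : b = a * e := by
    have := congrFun hf 1
    simp only [Pi.smul_apply, smul_eq_mul] at this
    rw [show f 1 = η 1 from rfl, he1, ← mul_assoc] at this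
    exact (mul_right_cancel₀ hd0 this).symm
  have hfe : f = (e : ℂ) • θ := by
    funext n
    have := congrFun hf n
    simp only [Pi.smul_apply, smul_eq_mul, hbe, mul_assoc] at this ⊢
    exact mul_left_cancel₀ hcon this
  -- the norm of the restriction
  have hsum : (Nat.card L : ℂ) * classInner f f = ((∑ n : L, Complex.normSq (f n) : ℝ) : ℂ) := by
    rw [classInner, ← mul_assoc, mul_inv_cancel₀ (by simp), one_mul, Complex.ofReal_sum]
    exact Finset.sum_congr rfl fun n _ => Complex.mul_conj _
  have hsumK : (Nat.card K : ℂ) * classInner η η = ((∑ n : K, Complex.normSq (η n) : ℝ) : ℂ) := by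
    rw [classInner, ← mul_assoc, mul_inv_cancel₀ (by simp), one_mul, Complex.ofReal_sum]
    exact Finset.sum_congr rfl fun n _ => Complex.mul_conj _
  rw [hfe, classInner_smul_left, classInner_smul_right, classInner_irr_self hθ, mul_one,
    map_natCast, ← hfe] at hsum
  rw [classInner_irr_self hη, mul_one] at hsumK
  have h1 : ((Nat.card L * (e * e) : ℕ) : ℝ) = ∑ n : L, Complex.normSq (f n) := by
    rw [← Complex.ofReal_inj]; push_cast at hsum ⊢; exact hsum
  have h2 : ((Nat.card K : ℕ) : ℝ) = ∑ n : K, Complex.normSq (η n) := by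
    exact_mod_cast hsumK
  have h3 : ∑ n : L, Complex.normSq (f n) ≤ ∑ n : K, Complex.normSq (η n) := by
    refine le_of_eq_of_le (Finset.sum_image (g := Subgroup.inclusion hle)
      (f := fun n : K => Complex.normSq (η n))
      (fun m _ n _ h => Subgroup.inclusion_injective hle h)).symm ?_
    exact Finset.sum_le_univ_sum_of_nonneg fun n => Complex.normSq_nonneg _
  have h4 : Nat.card L * (e * e) ≤ Nat.card K := by
    exact_mod_cast h1.le.trans (h3.trans h2.ge)
  have hcard : Nat.card L * L.relIndex K = Nat.card K := by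
    rw [← Nat.card_congr eL.toEquiv]
    exact Subgroup.card_mul_index L'
  rw [← hcard] at h4
  exact Nat.le_of_mul_le_mul_left h4 Nat.card_pos

/-- The `p`-exponent of the class size of the image of `g` in `G ⧸ L`. -/
def clsExp (p : ℕ) (L : Subgroup G) [L.Normal] (g : G) : ℕ :=
  (Subgroup.centralizer ({(g : G ⧸ L)} : Set (G ⧸ L))).index.factorization p

/-- Class sizes along a quotient map: the fibre contributes the moved part of the kernel. -/
theorem clsExp_step (p : ℕ) (L K : Subgroup G) [L.Normal] [K.Normal] (hle : L ≤ K)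
    (V : Subgroup (G ⧸ L)) (hV : V = K.map (QuotientGroup.mk' L)) [V.Normal] (g : G) :
    clsExp p K g + (Nat.card V).factorization p ≤
      clsExp p L g +
        (Nat.card (Subgroup.centralizer ({(g : G ⧸ L)} : Set (G ⧸ L)) ⊓ V : Subgroup (G ⧸ L))).factorization p := by
  set f : G ⧸ L →* G ⧸ K := QuotientGroup.map L K (MonoidHom.id G) (by simpa using hle)
  have hf : Function.Surjective f := by
    intro y
    obtain ⟨y, rfl⟩ := QuotientGroup.mk_surjective y
    exact ⟨(y : G ⧸ L), rfl⟩
  set x : G ⧸ L := (g : G ⧸ L)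
  set D := Subgroup.centralizer ({x} : Set (G ⧸ L))
  set P := (Subgroup.centralizer ({(g : G ⧸ K)} : Set (G ⧸ K))).comap f
  have hDP : D ≤ P := by
    intro y hy
    rw [Subgroup.mem_comap, Subgroup.mem_centralizer_singleton_iff]
    rw [Subgroup.mem_centralizer_singleton_iff] at hy
    have := congrArg f hy
    rwa [map_mul, map_mul] at this
  have hVP : V ≤ P := by
    rw [hV]
    rintro _ ⟨k, hk, rfl⟩
    rw [Subgroup.mem_comap, show f (QuotientGroup.mk' L k) = (k : G ⧸ K) from rfl,
      (QuotientGroup.eq_one_iff k).2 hk]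
    exact Subgroup.one_mem _
  have hP : P.index = (Subgroup.centralizer ({(g : G ⧸ K)} : Set (G ⧸ K))).index :=
    Subgroup.index_comap_of_surjective _ hf
  have hdvd : D.relIndex V ∣ D.relIndex P := by
    have h1 := Subgroup.relIndex_mul_relIndex (H := D ⊓ V) (K := D) (L := P) inf_le_left hDP
    have h2 := Subgroup.relIndex_mul_relIndex (H := D ⊓ V) (K := V) (L := P) inf_le_right hVP
    have h3 := Subgroup.relIndex_mul_relIndex (H := V) (K := D ⊔ V) (L := P) le_sup_right
      (sup_le hDP hVP)
    rw [Subgroup.inf_relIndex_left] at h1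
    rw [Subgroup.inf_relIndex_right, ← h1, ← h3, Subgroup.relIndex_sup_right] at h2
    refine ⟨(D ⊔ V).relIndex P, ?_⟩
    have hpos : 0 < V.relIndex D := Nat.pos_of_ne_zero Subgroup.index_ne_zero_of_finite
    refine Nat.eq_of_mul_eq_mul_left hpos ?_
    rw [← h2]; ring
  have hmul : D.relIndex V * Nat.card (D ⊓ V : Subgroup (G ⧸ L)) = Nat.card V := by
    rw [← Subgroup.inf_relIndex_right, mul_comm, ← Nat.card_congr
      (Subgroup.subgroupOfEquivOfLe (inf_le_right : D ⊓ V ≤ V)).toEquiv]
    exact Subgroup.card_mul_index _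
  have hne : ∀ H : Subgroup (G ⧸ L), H.index ≠ 0 := fun H => Subgroup.index_ne_zero_of_finite
  have h1 : D.index.factorization p = (D.relIndex P).factorization p + P.index.factorization p := by
    have hm := Subgroup.relIndex_mul_index hDP
    have h0 := hne D
    rw [← hm] at h0
    rw [← hm, Nat.factorization_mul (left_ne_zero_of_mul h0) (right_ne_zero_of_mul h0),
      Finsupp.add_apply]
  have h2 : (Nat.card V).factorization p = (D.relIndex V).factorization p +
      (Nat.card (D ⊓ V : Subgroup (G ⧸ L))).factorization p := by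
    rw [← hmul, Nat.factorization_mul (left_ne_zero_of_mul (hmul.trans_ne Nat.card_pos.ne'))
      Nat.card_pos.ne', Finsupp.add_apply]
  have h3 : (D.relIndex V).factorization p ≤ (D.relIndex P).factorization p :=
    (Nat.factorization_le_iff_dvd (left_ne_zero_of_mul (hmul.trans_ne Nat.card_pos.ne'))
      (by
        have h0 := hne D
        rw [← Subgroup.relIndex_mul_index hDP] at h0
        exact left_ne_zero_of_mul h0)).2 hdvd p
  have e1 : clsExp p L g = D.index.factorization p := rfl
  have e2 : clsExp p K g = P.index.factorization p := by rw [hP]; rfl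
  omega

/-- The module step: what the character gains is at most what the elements move. -/
theorem module_step [Group.IsSolvable G] {Q : Type*} [Group Q] [Finite Q] (π : G →* Q)
    (hπ : Function.Surjective π) (V : Subgroup Q) [V.Normal]
    (hmin : ∀ U : Subgroup Q, U.Normal → U ≤ V → U = ⊥ ∨ U = V) (p : ℕ) [Fact p.Prime] (e : ℕ)
    (he : e ∣ Nat.card V) (he2 : e * e ≤ Nat.card V) :
    Nat.card G * e.factorization p +
        ∑ g : G, (Nat.card (Subgroup.centralizer ({π g} : Set Q) ⊓ V : Subgroup Q)).factorization p ≤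
      Nat.card G * (Nat.card V).factorization p := by
  classical
  have hp : p.Prime := Fact.out
  have hCdvd : ∀ g : G,
      (Nat.card (Subgroup.centralizer ({π g} : Set Q) ⊓ V : Subgroup Q)).factorization p ≤
        (Nat.card V).factorization p := fun g =>
    (Nat.factorization_le_iff_dvd Nat.card_pos.ne' Nat.card_pos.ne').2
      (Subgroup.card_dvd_of_le inf_le_right) p
  by_cases hpe : p ∣ e
  swap
  · rw [Nat.factorization_eq_zero_of_not_dvd hpe, mul_zero, zero_add]
    calc ∑ g : G, _ ≤ ∑ _g : G, (Nat.card V).factorization p :=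
          Finset.sum_le_sum fun g _ => hCdvd g
      _ = _ := by rw [Finset.sum_const, Finset.card_univ, smul_eq_mul,
          Nat.card_eq_fintype_card (α := G)]
  haveI : Group.IsSolvable Q := Group.isSolvable_of_surjective hπ
  -- `V` is abelian
  have hab : ⁅V, V⁆ = ⊥ := by
    refine (hmin _ inferInstance (Subgroup.commutator_le_self V)).resolve_right fun heq => ?_
    obtain ⟨n, hn⟩ := (Group.isSolvable_def Q).1 inferInstance
    have : ∀ n, V ≤ derivedSeries Q n := by
      intro n
      induction n with
      | zero => simp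
      | succ k ih => rw [derivedSeries_succ, ← heq]; exact Subgroup.commutator_mono ih ih
    have hbot : V = ⊥ := le_bot_iff.1 (le_trans (this n) (hn ▸ le_rfl))
    have : p ∣ 1 := by simpa [hbot] using hpe.trans he
    exact hp.not_dvd_one this
  letI : CommGroup V :=
    { (inferInstance : Group V) with
      mul_comm := fun a b => Subtype.ext
        (commutatorElement_eq_one_iff_mul_comm.1 (Subgroup.mem_bot.1
          (hab ▸ Subgroup.commutator_mem_commutator a.2 b.2))) }
  let φ : G →* MulAut V := MulAut.conjNormal.comp π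
  have hφ : ∀ (g : G) (v : V), ((φ g v : V) : Q) = π g * v * (π g)⁻¹ := fun g v =>
    MulAut.conjNormal_apply (π g) v
  have hirr : ∀ U : Subgroup V, (∀ g, ∀ u ∈ U, φ g u ∈ U) → U = ⊥ ∨ U = ⊤ := by
    intro U hU
    have hn : (U.map V.subtype).Normal := ⟨by
      rintro _ ⟨u, hu, rfl⟩ q
      obtain ⟨g, rfl⟩ := hπ q
      exact ⟨φ g u, hU g u hu, hφ g u⟩⟩
    rcases hmin _ hn (Subgroup.map_subtype_le U) with h | h
    · exact Or.inl ((Subgroup.map_eq_bot_iff_of_injective _ V.subtype_injective).1 h)
    · refine Or.inr (Subgroup.map_injective V.subtype_injective ?_)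
      rw [h, ← MonoidHom.range_eq_map, Subgroup.range_subtype]
  have hpV : p ∣ Nat.card V := hpe.trans he
  have hVp : IsPGroup p V := by
    let T : Subgroup V :=
      { carrier := {v | ∃ k : ℕ, v ^ p ^ k = 1}
        one_mem' := ⟨0, one_pow _⟩
        mul_mem' := fun {a b} ⟨i, hi⟩ ⟨j, hj⟩ => ⟨i + j, by
          rw [mul_pow, pow_add, pow_mul, hi, one_pow, one_mul, mul_comm (p ^ i), pow_mul, hj,
            one_pow]⟩
        inv_mem' := fun {a} ⟨i, hi⟩ => ⟨i, by rw [inv_pow, hi, inv_one]⟩ }
    rcases hirr T (fun g u hu => by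
      obtain ⟨i, hi⟩ := (hu : ∃ k : ℕ, u ^ p ^ k = 1)
      exact ⟨i, by rw [← map_pow, hi, map_one]⟩) with h | h
    · obtain ⟨v, hv⟩ := exists_prime_orderOf_dvd_card' p hpV
      have hv' : v ∈ T := ⟨1, by rw [pow_one, ← hv, pow_orderOf_eq_one]⟩
      rw [h, Subgroup.mem_bot] at hv'
      rw [hv', orderOf_one] at hv
      exact absurd hv hp.one_lt.ne
    · exact fun v => (h ▸ Subgroup.mem_top v : v ∈ T)
  obtain ⟨n, hn⟩ := IsPGroup.iff_card.1 hVp
  obtain ⟨ε, hεn, rfl⟩ := (Nat.dvd_prime_pow hp).1 (hn ▸ he)
  have hε2 : 2 * ε ≤ n := by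
    rw [hn, ← pow_add] at he2
    have := (Nat.pow_le_pow_iff_right hp.one_lt).1 he2
    omega
  have hε1 : ε ≠ 0 := by
    rintro rfl
    exact hp.not_dvd_one (by simpa using hpe)
  have hφ1 : φ ≠ 1 := by
    intro h1
    obtain ⟨v, hv⟩ := exists_prime_orderOf_dvd_card' p hpV
    rcases hirr (Subgroup.zpowers v) (fun g u hu => by rw [h1]; exact hu) with h | h
    · rw [Subgroup.zpowers_eq_bot.1 h, orderOf_one] at hv
      exact hp.one_lt.ne hv
    · have hc := Nat.card_zpowers v
      rw [h, Subgroup.card_top, hn, hv] at hc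
      have : n = 1 := Nat.pow_eq_self_iff hp.one_lt |>.1 hc
      omega
  have key := CfsgLib.FixAverage.prod_fix_sq_le hVp hirr hφ1
  have hcfix : ∀ g : G, Nat.card (CfsgLib.FixAverage.fix φ g) =
      Nat.card (Subgroup.centralizer ({π g} : Set Q) ⊓ V : Subgroup Q) := by
    intro g
    refine Nat.card_congr
      ⟨fun v => ⟨((v : V) : Q), Subgroup.mem_centralizer_singleton_iff.2 ?_, (v : V).2⟩,
        fun y => ⟨⟨y, y.2.2⟩, (CfsgLib.FixAverage.mem_fix φ).2 (Subtype.ext ?_)⟩,
        fun v => rfl, fun y => rfl⟩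
    · have h := congrArg (fun w : V => (w : Q)) ((CfsgLib.FixAverage.mem_fix φ).1 v.2)
      simp only [hφ] at h
      exact (mul_inv_eq_iff_eq_mul.1 h).symm
    · rw [hφ]
      exact mul_inv_eq_iff_eq_mul.2 (Subgroup.mem_centralizer_singleton_iff.1 y.2.1).symm
  have hcv : ∀ g : G, ∃ c : ℕ, Nat.card (CfsgLib.FixAverage.fix φ g) = p ^ c := fun g =>
    IsPGroup.iff_card.1 (hVp.to_subgroup _)
  choose c hc using hcv
  have h2 : 2 * ∑ g : G, c g ≤ n * Nat.card G := by
    simp only [hc, ← pow_mul, hn] at key
    rw [Finset.prod_pow_eq_pow_sum, ← Finset.sum_mul] at key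
    have := (Nat.pow_le_pow_iff_right hp.one_lt).1 key
    omega
  have h3 : ∑ g : G, (Nat.card (Subgroup.centralizer ({π g} : Set Q) ⊓ V : Subgroup Q)).factorization p =
      ∑ g : G, c g := Finset.sum_congr rfl fun g _ => by
    rw [← hcfix, hc, hp.factorization_pow, Finsupp.single_eq_same]
  rw [h3, hn, hp.factorization_pow, hp.factorization_pow, Finsupp.single_eq_same,
    Finsupp.single_eq_same]
  have h4 : 2 * (Nat.card G * ε) ≤ Nat.card G * n := by
    rw [← mul_assoc, mul_comm 2, mul_assoc]
    exact Nat.mul_le_mul_left _ hε2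
  rw [mul_comm n] at h2
  omega

/-- The inductive statement down a chief series. -/
theorem degree_le_sum [Group.IsSolvable G] {χ : G → ℂ} (hχ : IsIrrCharacter G χ)
    (hqp : QuasiPrimitive χ) (p : ℕ) [Fact p.Prime] (m : ℕ) (hm : χ 1 = m) :
    ∀ (k : ℕ) (L : Subgroup G) [L.Normal] [Fintype L], L.index ≤ k → ∀ (θ : L → ℂ) (d : ℕ),
      IsIrrCharacter L θ → θ 1 = d → classInner (fun n : L => χ n) θ ≠ 0 →
        Nat.card G * m.factorization p ≤
          (∑ g : G, clsExp p L g) + Nat.card G * d.factorization p := by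
  classical
  intro k
  induction k with
  | zero => intro L _ _ h; exact absurd (Nat.le_zero.1 h) Subgroup.index_ne_zero_of_finite
  | succ k ih =>
    intro L _ _ hLk θ d hθ hd hcon
    by_cases htop : L = ⊤
    · subst htop
      obtain ⟨j, hj, hjd⟩ := CfsgLib.Ramified.degree_ratio_dvd_index (⊤ : Subgroup G) hχ hθ hcon
      rw [Subgroup.index_top, Nat.dvd_one] at hjd
      subst hjd
      rw [hm, hd, Nat.cast_one, one_mul, Nat.cast_inj] at hj
      subst hj
      exact Nat.le_add_left _ _
    obtain ⟨K, ⟨hKn, hLK⟩, hKmin⟩ := Set.Finite.exists_minimal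
      (Set.toFinite {K : Subgroup G | K.Normal ∧ L < K}) ⟨⊤, inferInstance, lt_top_iff_ne_top.2 htop⟩
    haveI := hKn
    haveI : Fintype K := Fintype.ofFinite _
    have hlt : K.index < L.index := Subgroup.index_strictAnti hLK
    have hresK : IsCharacter K (fun n : K => χ n) :=
      CfsgLib.Clifford.isCharacter_subtype (isCharacter_of_irr hχ) K
    obtain ⟨η, hη⟩ := CfsgLib.Clifford.exists_constituent hresK (by
      intro h0
      obtain ⟨c, hc, hc1⟩ := irr_exists_degree hχ
      have : χ 1 = 0 := congrFun h0 1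
      rw [hc1, Nat.cast_eq_zero] at this
      omega)
    obtain ⟨dK, hdK, hdK1⟩ := irr_exists_degree η.2
    obtain ⟨e, he, hed, hee⟩ :=
      degree_step hqp L K inferInstance hKn hLK.le θ hθ (η : K → ℂ) η.2 hη hcon
    have hdKe : dK = e * d := by
      rw [hdK1, hd] at he
      exact_mod_cast he
    have hih := ih K (by omega) (η : K → ℂ) dK η.2 hdK1 hη
    set V : Subgroup (G ⧸ L) := K.map (QuotientGroup.mk' L) with hVdef
    haveI : V.Normal := hKn.map _ (QuotientGroup.mk'_surjective L)
    have hVcard : Nat.card V = L.relIndex K := by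
      conv_rhs => rw [← QuotientGroup.ker_mk' L, Subgroup.relIndex_ker]
    have hmin : ∀ U : Subgroup (G ⧸ L), U.Normal → U ≤ V → U = ⊥ ∨ U = V := by
      intro U hUn hUV
      by_cases hU : L < U.comap (QuotientGroup.mk' L)
      · right
        refine le_antisymm hUV ?_
        have hK' : U.comap (QuotientGroup.mk' L) ≤ K := by
          intro x hx
          obtain ⟨y, hy, hyx⟩ := hUV hx
          obtain ⟨z, hz, rfl⟩ := (QuotientGroup.mk'_eq_mk' L).1 hyx
          exact K.mul_mem hy (hLK.le hz)
        intro u hu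
        obtain ⟨y, hy, rfl⟩ := hu
        exact hKmin ⟨inferInstance, hU⟩ hK' hy
      · left
        rw [lt_iff_le_and_ne, not_and, not_not] at hU
        have hL' : L ≤ U.comap (QuotientGroup.mk' L) := fun x hx => by
          rw [Subgroup.mem_comap, QuotientGroup.mk'_apply, (QuotientGroup.eq_one_iff x).2 hx]
          exact U.one_mem
        apply Subgroup.comap_injective (QuotientGroup.mk'_surjective L)
        rw [← hU hL', MonoidHom.comap_bot, QuotientGroup.ker_mk']
    have hmod := module_step (QuotientGroup.mk' L) (QuotientGroup.mk'_surjective L) V hmin p e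
      (hVcard ▸ hed) (hVcard ▸ hee)
    have hcls : (∑ g : G, clsExp p K g) + Nat.card G * (Nat.card V).factorization p ≤
        (∑ g : G, clsExp p L g) + ∑ g : G, (Nat.card (Subgroup.centralizer
          ({(g : G ⧸ L)} : Set (G ⧸ L)) ⊓ V : Subgroup (G ⧸ L))).factorization p := by
      have := Finset.sum_le_sum fun g (_ : g ∈ (Finset.univ : Finset G)) =>
        clsExp_step p L K hLK.le V rfl g
      simpa [Finset.sum_add_distrib, Nat.card_eq_fintype_card (α := G)] using this
    have hd0 : d ≠ 0 := by
      rintro rfl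
      rw [hdKe, mul_zero] at hdK
      exact absurd hdK (lt_irrefl 0)
    have he0 : e ≠ 0 := by
      rintro rfl
      rw [hdKe, zero_mul] at hdK
      exact absurd hdK (lt_irrefl 0)
    have hfac : dK.factorization p = e.factorization p + d.factorization p := by
      rw [hdKe, Nat.factorization_mul he0 hd0, Finsupp.add_apply]
    rw [hfac, mul_add] at hih
    simp only [QuotientGroup.mk'_apply] at hmod
    omega

/-- **Primitive degrees and class sizes.** -/
theorem exists_class [Group.IsSolvable G] {χ : G → ℂ} (hχ : IsIrrCharacter G χ)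
    (hprim : ¬ ∃ H : Subgroup G, H ≠ ⊤ ∧ ∃ θ : H → ℂ, IsCharacter H θ ∧ indFun H θ = χ)
    (p : ℕ) [Fact p.Prime] :
    ∃ g : G, (Cfsg.charDegree χ).factorization p ≤
      (Subgroup.centralizer ({g} : Set G)).index.factorization p := by
  classical
  obtain ⟨m, hm0, hm⟩ := irr_exists_degree hχ
  have hdeg : Cfsg.charDegree χ = m := by simp [Cfsg.charDegree, hm]
  have hres : IsCharacter (⊥ : Subgroup G) (fun n : (⊥ : Subgroup G) => χ n) :=
    CfsgLib.Clifford.isCharacter_subtype (isCharacter_of_irr hχ) _
  obtain ⟨θ, hθ⟩ := CfsgLib.Clifford.exists_constituent hres (by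
    intro h0
    have : χ 1 = 0 := congrFun h0 1
    rw [hm, Nat.cast_eq_zero] at this
    omega)
  obtain ⟨d, hd, hd1⟩ := irr_exists_degree θ.2
  have hd_one : d = 1 := by
    have h := CfsgLib.CharCorr.charDegree_irr_dvd_card θ
    rw [show Cfsg.charDegree (θ : (⊥ : Subgroup G) → ℂ) = d by simp [Cfsg.charDegree, hd1],
      Subgroup.card_bot, Nat.dvd_one] at h
    exact h
  have key := degree_le_sum hχ (quasiPrimitive_of_not_induced hχ hprim) p m hm _ ⊥ le_rfl
    (θ : (⊥ : Subgroup G) → ℂ) d θ.2 hd1 hθ
  rw [hd_one, Nat.factorization_one, Finsupp.zero_apply, mul_zero, add_zero] at key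
  have hidx : ∀ g : G, clsExp p (⊥ : Subgroup G) g =
      (Subgroup.centralizer ({g} : Set G)).index.factorization p := by
    intro g
    have hc : Subgroup.centralizer ({g} : Set G) = (Subgroup.centralizer
        ({(g : G ⧸ (⊥ : Subgroup G))} : Set _)).comap (QuotientGroup.mk' ⊥) := by
      ext y
      simp only [Subgroup.mem_comap, Subgroup.mem_centralizer_singleton_iff, QuotientGroup.mk'_apply]
      constructor
      · intro h
        rw [← QuotientGroup.mk_mul, h, QuotientGroup.mk_mul]
      · intro h
        rw [← QuotientGroup.mk_mul, ← QuotientGroup.mk_mul, QuotientGroup.eq, Subgroup.mem_bot,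
          inv_mul_eq_one] at h
        exact h
    rw [hc, Subgroup.index_comap_of_surjective _ (QuotientGroup.mk'_surjective _)]
    rfl
  rw [hdeg]
  by_contra hcon
  push Not at hcon
  have hlt : ∑ g : G, clsExp p (⊥ : Subgroup G) g < ∑ _g : G, m.factorization p :=
    Finset.sum_lt_sum_of_nonempty Finset.univ_nonempty fun g _ => hidx g ▸ hcon g
  rw [Finset.sum_const, Finset.card_univ, smul_eq_mul, ← Nat.card_eq_fintype_card] at hlt
  omega

end CfsgLib.PrimitiveClassSize
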